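import Mathlib
import Cfsg.Prelude.Def_Blocks
import Cfsg.Agent.S4626
import Cfsg.Agent.CharactersDeep.CosetAverage
import Cfsg.Agent.CharactersDeep.ExtUnique
import Cfsg.Agent.Blocks.Orthogonality
import Cfsg.Agent.Blocks.Osima

/-!
# S4880, piece D-B (character part)

`char_part` : `G = T H`, `T` normal, `H` a `p'`-group which fixes all `(H ∩ T, H ∩ T)`-double cosets of `T`: if `N ≥ T`
is normal of index `5` and contains `C_G(P)`, then the principal `p`-block has at least ten characters.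
-/

set_option autoImplicit false

universe u

namespace Cfsg.Agent.H157.D

open Cfsg Cfsg.Agent.Characters.Core Cfsg.Agent.Blocks
open scoped ComplexConjugate

section rep

variable {G : Type*} [Group G] {V : Type*} [AddCommGroup V] [Module ℂ V]

/-- every nonzero `H`-fixed vector generates the representation under `T`, if `G = T H` -/
theorem span_eq_top (ρ : Representation ℂ G V) (hρ : ρ.IsIrreducible) (T H : Subgroup G) [hT : T.Normal]
    (hTH : T ⊔ H = ⊤) {v : V} (hv : v ≠ 0) (hH : ∀ h ∈ H, ρ h v = v) :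
    Submodule.span ℂ (Set.range fun t : T => ρ (t : G) v) = ⊤ := by
  let U : Subrepresentation ρ :=
    { toSubmodule := Submodule.span ℂ (Set.range fun t : T => ρ (t : G) v)
      apply_mem_toSubmodule := by
        intro g w hw
        have hg : g ∈ T ⊔ H := by rw [hTH]; exact Subgroup.mem_top g
        obtain ⟨t, ht, h, hh, rfl⟩ := Subgroup.mem_sup_of_normal_left.1 hg
        induction hw using Submodule.span_induction with
        | mem w hw =>
          obtain ⟨s, rfl⟩ := hw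
          refine Submodule.subset_span ⟨⟨t * (h * s * h⁻¹), T.mul_mem ht (hT.conj_mem _ s.2 h)⟩, ?_⟩
          change ρ (t * (h * s * h⁻¹)) v = ρ (t * h) (ρ s v)
          have e1 : t * h * (s : G) = t * (h * s * h⁻¹) * h := by group
          rw [← Module.End.mul_apply, ← map_mul, e1, map_mul ρ (t * (h * s * h⁻¹)) h, Module.End.mul_apply, hH h hh]
        | zero => rw [map_zero]; exact Submodule.zero_mem _
        | add x y _ _ hx hy => rw [map_add]; exact Submodule.add_mem _ hx hy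
        | smul c x _ hx => rw [map_smul]; exact Submodule.smul_mem _ c hx }
  rcases hρ.eq_bot_or_eq_top U with h | h
  · exfalso
    apply hv
    have h1 : v ∈ U.toSubmodule := Submodule.subset_span ⟨1, by
      change ρ ((1 : T) : G) v = v
      rw [OneMemClass.coe_one, map_one]
      rfl⟩
    have h2 : U.toSubmodule = ⊥ := congrArg Subrepresentation.toSubmodule h
    rw [h2, Submodule.mem_bot] at h1
    exact h1
  · exact congrArg Subrepresentation.toSubmodule h

/-- vectors fixed by `H ∩ T` are fixed by `H` -/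
theorem fixed_of_fixed [Finite G] (ρ : Representation ℂ G V) (T H : Subgroup G) [hT : T.Normal]
    (hinv : ∀ h ∈ H, ∀ t ∈ T, ∃ b ∈ H ⊓ T, ∃ b' ∈ H ⊓ T, h * t * h⁻¹ = b * t * b')
    {v : V} (hH : ∀ h ∈ H, ρ h v = v)
    (hspan : Submodule.span ℂ (Set.range fun t : T => ρ (t : G) v) = ⊤)
    {u : V} (hu : ∀ b ∈ H ⊓ T, ρ b u = u) : ∀ h ∈ H, ρ h u = u := by
  classical
  have := Fintype.ofFinite ↥(H ⊓ T)
  intro h hh
  -- the averaging operator
  let E : V → V := fun x => ∑ b : ↥(H ⊓ T), ρ (b : G) x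
  have hE : ∀ x, E x = ∑ b : ↥(H ⊓ T), ρ (b : G) x := fun _ => rfl
  have hEadd : ∀ x y, E (x + y) = E x + E y := by
    intro x y
    rw [hE, hE, hE, ← Finset.sum_add_distrib]
    exact Finset.sum_congr rfl fun b _ => map_add _ _ _
  have hEsmul : ∀ (c : ℂ) x, E (c • x) = c • E x := by
    intro c x
    rw [hE, hE, Finset.smul_sum]
    exact Finset.sum_congr rfl fun b _ => map_smul _ _ _
  have hEzero : E 0 = 0 := by
    rw [hE]
    exact Finset.sum_eq_zero fun b _ => map_zero _
  -- `E (ρ b x) = E x`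
  have hEb : ∀ b ∈ H ⊓ T, ∀ x, E (ρ b x) = E x := by
    intro b hb x
    rw [hE, hE]
    refine Fintype.sum_equiv (Equiv.mulRight (⟨b, hb⟩ : ↥(H ⊓ T))) _ _ fun c => ?_
    rw [← Module.End.mul_apply, ← map_mul]
    rfl
  -- `ρ h (E x) = E (ρ h x)`
  have hconj : ∀ x, ρ h (E x) = E (ρ h x) := by
    intro x
    rw [hE, hE, map_sum]
    refine Finset.sum_bij (fun b _ => ⟨h * b * h⁻¹, H.mul_mem (H.mul_mem hh b.2.1) (H.inv_mem hh),
      hT.conj_mem _ b.2.2 h⟩) (fun _ _ => Finset.mem_univ _) ?_ ?_ ?_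
    · intro a _ b _ hab
      apply Subtype.ext
      have h1 := congrArg Subtype.val hab
      exact mul_left_cancel (mul_right_cancel h1)
    · intro b _
      refine ⟨⟨h⁻¹ * b * h, H.mul_mem (H.mul_mem (H.inv_mem hh) b.2.1) hh, ?_⟩, Finset.mem_univ _, Subtype.ext ?_⟩
      · have := hT.conj_mem _ b.2.2 h⁻¹
        rwa [inv_inv] at this
      · change h * (h⁻¹ * b * h) * h⁻¹ = b
        group
    · intro b _
      change ρ h (ρ b x) = ρ (h * b * h⁻¹) (ρ h x)
      rw [← Module.End.mul_apply, ← map_mul, ← Module.End.mul_apply, ← map_mul]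
      congr 2
      group
  have key : ∀ x, ρ h (E x) = E x := by
    intro x
    have hx : x ∈ Submodule.span ℂ (Set.range fun t : T => ρ (t : G) v) := by rw [hspan]; trivial
    induction hx using Submodule.span_induction with
    | mem x hx =>
      obtain ⟨t, rfl⟩ := hx
      obtain ⟨b, hb, b', hb', e⟩ := hinv h hh t t.2
      rw [hconj]
      change E (ρ h (ρ (t : G) v)) = E (ρ (t : G) v)
      have e1 : ρ h (ρ (t : G) v) = ρ b (ρ (t : G) v) := by
        have e2 : h * (t : G) = b * t * b' * h := by rw [← e]; group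
        rw [← Module.End.mul_apply, ← map_mul, e2, map_mul ρ (b * t * b') h, Module.End.mul_apply, hH h hh,
          map_mul ρ (b * t) b', Module.End.mul_apply, hH b' hb'.1, map_mul, Module.End.mul_apply]
      rw [e1, hEb b hb]
    | zero => rw [hEzero, map_zero]
    | add x y _ _ hx hy => rw [hEadd, map_add, hx, hy]
    | smul c x _ hx => rw [hEsmul, map_smul, hx]
  have h1 : E u = (Nat.card ↥(H ⊓ T) : ℂ) • u := by
    rw [hE, Finset.sum_congr rfl (fun (b : ↥(H ⊓ T)) _ => hu (b : G) b.2), Finset.sum_const, Finset.card_univ,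
      Nat.card_eq_fintype_card, Nat.cast_smul_eq_nsmul]
  have h2 := key u
  rw [h1, map_smul] at h2
  have h3 : (Nat.card ↥(H ⊓ T) : ℂ) ≠ 0 := by exact_mod_cast Nat.card_pos.ne'
  exact smul_right_injective V h3 h2

/-- **An irreducible representation of `G = T H` with an `H`-fixed vector is irreducible for `T`.** -/
theorem irr_restrict [Finite G] (ρ : Representation ℂ G V) (hρ : ρ.IsIrreducible) (T H : Subgroup G) [hT : T.Normal]
    (hTH : T ⊔ H = ⊤) (hinv : ∀ h ∈ H, ∀ t ∈ T, ∃ b ∈ H ⊓ T, ∃ b' ∈ H ⊓ T, h * t * h⁻¹ = b * t * b')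
    {v : V} (hv : v ≠ 0) (hH : ∀ h ∈ H, ρ h v = v) :
    Representation.IsIrreducible (ρ.comp T.subtype : Representation ℂ T V) := by
  have hspan := span_eq_top ρ hρ T H hTH hv hH
  have hnt : Nontrivial (Subrepresentation (ρ.comp T.subtype : Representation ℂ T V)) := by
    refine ⟨⊥, ⊤, fun h => hv ?_⟩
    have h1 : (⊥ : Submodule ℂ V) = ⊤ := congrArg Subrepresentation.toSubmodule h
    have h2 : v ∈ (⊤ : Submodule ℂ V) := trivial
    rwa [← h1, Submodule.mem_bot] at h2
  refine ⟨fun W => ?_⟩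
  by_cases hW : W.toSubmodule = ⊥
  · exact Or.inl (Subrepresentation.toSubmodule_injective hW)
  right
  apply Subrepresentation.toSubmodule_injective
  change W.toSubmodule = ⊤
  obtain ⟨W', hW'⟩ := exists_isCompl_sub W
  -- the component of `v`
  obtain ⟨w, hw, w', hw', hvw⟩ : ∃ w ∈ W.toSubmodule, ∃ w' ∈ W'.toSubmodule, w + w' = v := by
    have h1 : v ∈ W.toSubmodule ⊔ W'.toSubmodule := by rw [hW'.sup_eq_top]; trivial
    exact Submodule.mem_sup.1 h1
  have hdis := hW'.inf_eq_bot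
  have hwb : ∀ b ∈ H ⊓ T, ρ b w = w := by
    intro b hb
    have h1 := hH b hb.1
    rw [← hvw, map_add] at h1
    have h2 : ρ b w - w ∈ W.toSubmodule ⊓ W'.toSubmodule := by
      refine ⟨W.toSubmodule.sub_mem (W.apply_mem_toSubmodule ⟨b, hb.2⟩ hw) hw, ?_⟩
      have h3 : ρ b w - w = w' - ρ b w' := by
        rw [sub_eq_sub_iff_add_eq_add, h1]
        exact add_comm _ _
      rw [h3]
      exact W'.toSubmodule.sub_mem hw' (W'.apply_mem_toSubmodule ⟨b, hb.2⟩ hw')
    rw [hdis, Submodule.mem_bot, sub_eq_zero] at h2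
    exact h2
  have hw0 : w ≠ 0 := by
    rintro rfl
    rw [zero_add] at hvw
    subst hvw
    have h1 : (⊤ : Submodule ℂ V) ≤ W'.toSubmodule := by
      rw [← hspan, Submodule.span_le]
      rintro _ ⟨t, rfl⟩
      exact W'.apply_mem_toSubmodule t hw'
    have h2 : W'.toSubmodule = ⊤ := top_le_iff.1 h1
    rw [h2, inf_top_eq] at hdis
    exact hW hdis
  have hwH := fixed_of_fixed ρ T H hinv hH hspan hwb
  have h1 := span_eq_top ρ hρ T H hTH hw0 hwH
  rw [← top_le_iff, ← h1, Submodule.span_le]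
  rintro _ ⟨t, rfl⟩
  exact W.apply_mem_toSubmodule t hw

end rep

variable {G : Type u} [Group G] [Finite G]

/-- A nontrivial character of the principal block with an `H`-fixed vector, `H` a `p'`-group. -/
theorem exists_char {p : ℕ} [hpf : Fact p.Prime] {M : Ideal AlgInt} (hM : IsPModular p M) (H : Subgroup G)
    [Fintype H] (hH : ¬ p ∣ Nat.card H) (hdiv : p ∣ Nat.card G) :
    ∃ χ : IrrCharacter G, χ ∈ principalBlock M G ∧ (χ : G → ℂ) ≠ (fun _ => 1) ∧ ∑ h : H, (χ : G → ℂ) h ≠ 0 := by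
  classical
  by_contra hcon
  push Not at hcon
  have hMp : M.IsPrime := hM.2.1.isPrime
  obtain ⟨y, hy⟩ := exists_prime_orderOf_dvd_card' p hdiv
  have hB : IsPBlock M (principalBlock M G) := ⟨⟨_, isIrr_one⟩, rfl⟩
  have hfin : Finite (IrrCharacter G) := finite_irr
  have hft : Fintype (IrrCharacter G) := Fintype.ofFinite _
  have h1 : ∀ h : H, ∑ χ ∈ (Finset.univ.filter fun χ : IrrCharacter G => χ ∈ principalBlock M G),
      (χ : G → ℂ) h * conj ((χ : G → ℂ) y) = 0 := by
    intro h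
    have h2 := Cfsg.Agent.Blocks.Orthogonality.weak_block_orthogonality hM (principalBlock M G)
      (Cfsg.Agent.Blocks.Osima.memLocalRing_blockCoeff hM hB) (x := h) (y := y)
      (fun h3 => hH (h3.trans (by
        have h4 : orderOf h ∣ Nat.card H := orderOf_dvd_natCard h
        rwa [← Subgroup.orderOf_coe] at h4))) (by rw [hy])
    rw [Cfsg.Agent.Blocks.Orthogonality.finsum_mem_eq_sum_filter] at h2
    exact h2
  have h2 : ∑ χ ∈ (Finset.univ.filter fun χ : IrrCharacter G => χ ∈ principalBlock M G),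
      (∑ h : H, (χ : G → ℂ) h) * conj ((χ : G → ℂ) y) = 0 := by
    simp only [Finset.sum_mul]
    rw [Finset.sum_comm]
    exact Finset.sum_eq_zero fun h _ => h1 h
  set one : IrrCharacter G := ⟨fun _ => 1, isIrr_one⟩ with hone
  have hmem : one ∈ (Finset.univ.filter fun χ : IrrCharacter G => χ ∈ principalBlock M G) :=
    Finset.mem_filter.2 ⟨Finset.mem_univ _, Cfsg.Agent.Blocks.Basic.sameBlock_refl _⟩
  rw [← Finset.add_sum_erase _ _ hmem, Finset.sum_eq_zero (s := Finset.erase _ one) fun χ hχ => ?_, add_zero] at h2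
  · have h3 : (one : G → ℂ) y = 1 := rfl
    have h4 : ∑ h : H, (one : G → ℂ) h = (Nat.card H : ℂ) := by
      change ∑ h : H, (1 : ℂ) = _
      rw [Finset.sum_const, Finset.card_univ, Nat.card_eq_fintype_card, nsmul_eq_mul, mul_one]
    rw [h3, h4, map_one, mul_one] at h2
    exact Nat.card_pos.ne' (by exact_mod_cast h2 : Nat.card H = 0)
  · obtain ⟨h3, h4⟩ := Finset.mem_erase.1 hχ
    rw [hcon χ (Finset.mem_filter.1 h4).2 (fun h5 => h3 (Subtype.ext h5)), zero_mul]

/-- **The restriction to `T`.** -/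
theorem restrict_irr (T H : Subgroup G) [hT : T.Normal] [Fintype H] (hTH : T ⊔ H = ⊤)
    (hinv : ∀ h ∈ H, ∀ t ∈ T, ∃ b ∈ H ⊓ T, ∃ b' ∈ H ⊓ T, h * t * h⁻¹ = b * t * b')
    {χ : G → ℂ} (hχ : IsIrrCharacter G χ) (hχ1 : χ ≠ fun _ => 1) (hsum : ∑ h : H, χ h ≠ 0) :
    IsIrrCharacter T (fun t : T => χ t) ∧ ∃ t : T, χ t ≠ 1 := by
  classical
  obtain ⟨n, ρ, hρ, rfl⟩ := hχ
  obtain ⟨v, hv, hvH⟩ : ∃ v : Fin n → ℂ, v ≠ 0 ∧ ∀ h ∈ H, ρ h v = v := by
    have h1 : (∑ h : H, ρ (h : G)) ≠ 0 := by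
      intro h1
      apply hsum
      have h2 : ∑ h : H, ρ.character (h : G) = LinearMap.trace ℂ (Fin n → ℂ) (∑ h : H, ρ (h : G)) := by
        rw [map_sum]
        rfl
      rw [h2, h1, map_zero]
    obtain ⟨w, hw⟩ : ∃ w, (∑ h : H, ρ (h : G)) w ≠ 0 := by
      by_contra h2
      push Not at h2
      exact h1 (LinearMap.ext h2)
    refine ⟨_, hw, fun h hh => ?_⟩
    rw [LinearMap.sum_apply, map_sum]
    refine Fintype.sum_equiv (Equiv.mulLeft (⟨h, hh⟩ : H)) _ _ fun k => ?_
    rw [← Module.End.mul_apply, ← map_mul]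
    rfl
  refine ⟨?_, ?_⟩
  · exact isIrrCharacter_of_rep (ρ.comp T.subtype : Representation ℂ T (Fin n → ℂ))
      (irr_restrict ρ hρ T H hTH hinv hv hvH)
  · by_contra hcon
    push Not at hcon
    apply hχ1
    have h1 : ρ.character 1 = 1 := by
      have := hcon 1
      rwa [OneMemClass.coe_one] at this
    have hn : Module.finrank ℂ (Fin n → ℂ) = 1 := by
      rw [Representation.char_one] at h1
      exact_mod_cast h1
    have hsc : ∀ g : G, ρ g = ρ.character g • LinearMap.id := by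
      intro g
      obtain ⟨c, hc, -⟩ := LinearMap.existsUnique_eq_smul_id_of_finrank_eq_one hn (ρ g)
      have h2 : ρ.character g = c := by
        change LinearMap.trace ℂ _ (ρ g) = c
        rw [hc, map_smul, LinearMap.trace_id, hn, Nat.cast_one, smul_eq_mul, mul_one]
      rw [h2]
      exact hc
    have hfix : ∀ g : G, ρ g v = v → ρ.character g = 1 := by
      intro g hg
      rw [hsc g, LinearMap.smul_apply, LinearMap.id_apply] at hg
      have h2 : (ρ.character g - 1) • v = 0 := by rw [sub_smul, hg, one_smul, sub_self]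
      exact sub_eq_zero.1 ((smul_eq_zero.1 h2).resolve_right hv)
    have hT1 : ∀ t ∈ T, ρ t v = v := by
      intro t ht
      rw [hsc t, hcon ⟨t, ht⟩, one_smul]
      rfl
    funext g
    have hg : g ∈ T ⊔ H := by rw [hTH]; exact Subgroup.mem_top g
    obtain ⟨t, ht, h, hh, rfl⟩ := Subgroup.mem_sup_of_normal_left.1 hg
    refine hfix _ ?_
    rw [map_mul, Module.End.mul_apply, hvH h hh, hT1 t ht]

/-- multiplication by a linear character in the principal block -/
theorem mul_mem {p : ℕ} {M : Ideal AlgInt} (hM : IsPModular p M) {l ψ ξ : IrrCharacter G}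
    (hl : l ∈ principalBlock M G) (hl1 : (l : G → ℂ) 1 = 1) (hψ : ψ ∈ principalBlock M G)
    (hξ : (ξ : G → ℂ) = (ψ : G → ℂ) * (l : G → ℂ)) : ξ ∈ principalBlock M G := by
  have hMp : M.IsPrime := hM.2.1.isPrime
  have hl' : ∀ g, MemLocalIdeal M (centralChar (fun _ : G => (1 : ℂ)) g - centralChar (l : G → ℂ) g) := hl
  have hψ' : ∀ g, MemLocalIdeal M (centralChar (fun _ : G => (1 : ℂ)) g - centralChar (ψ : G → ℂ) g) := hψ
  change ∀ g, MemLocalIdeal M (centralChar (fun _ : G => (1 : ℂ)) g - centralChar (ξ : G → ℂ) g)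
  intro g
  have h1 := hl' g
  have h2 := hψ' g
  rw [Blocks.Basic.centralChar_def, Blocks.Basic.centralChar_def] at h1 h2 ⊢
  have hlg : MemLocalRing M ((l : G → ℂ) g) :=
    Blocks.LocalRing.memLocalRing_of_isIntegral hM
      (Characters.GaloisBasic.isIntegral_apply (isIrr_isCharacter l.2) g)
  have h3 := Blocks.LocalRing.memLocalIdeal_mul_left hM hlg h2
  have h4 := Blocks.LocalRing.memLocalIdeal_add hM h1 h3
  rw [hξ, Pi.mul_apply, Pi.mul_apply, hl1]
  rw [hl1] at h4
  convert h4 using 1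
  ring

/-- **S4880, the character part of the `²F₄` case.** -/
theorem char_part {p : ℕ} [hpf : Fact p.Prime] {M : Ideal AlgInt} (hM : IsPModular p M) (T : Subgroup G)
    [hT : T.Normal] (H : Subgroup G) (hTH : T ⊔ H = ⊤) (hH : ¬ p ∣ Nat.card H)
    (hinv : ∀ h ∈ H, ∀ t ∈ T, ∃ b ∈ H ⊓ T, ∃ b' ∈ H ⊓ T, h * t * h⁻¹ = b * t * b') (P : Sylow p G)
    (N : Subgroup G) [hN : N.Normal] (hTN : T ≤ N)
    (hCN : Subgroup.centralizer ((P : Subgroup G) : Set G) ≤ N) (hidx : N.index = 5) (hp : p ≠ 5)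
    (hdiv : p ∣ Nat.card G) : 10 ≤ Nat.card (principalBlock M G) := by
  classical
  have := Fintype.ofFinite G
  have := Fintype.ofFinite H
  have := Fintype.ofFinite T
  have hfin : Finite (IrrCharacter G) := finite_irr
  obtain ⟨χ, hχB, hχ1, hsum⟩ := exists_char hM H hH hdiv
  obtain ⟨hirr, t₀, ht₀⟩ := restrict_irr T H hTH hinv χ.2 hχ1 hsum
  have h5 : Nat.Prime 5 := by norm_num
  have hpidx : ¬ p ∣ N.index := by
    rw [hidx]
    intro h
    exact hp ((Nat.prime_dvd_prime_iff_eq hpf.out h5).1 h)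
  -- the quotient
  have hQ : Nat.card (G ⧸ N) = 5 := hidx
  have hcyc : IsCyclic (G ⧸ N) := by
    have : Fact (Nat.Prime 5) := ⟨h5⟩
    exact isCyclic_of_prime_card hQ
  let _ : CommGroup (G ⧸ N) := IsCyclic.commGroup
  have hΛ : Nat.card ((G ⧸ N) →* ℂˣ) = 5 := by
    rw [← hQ]
    exact CommGroup.card_monoidHom_of_hasEnoughRootsOfUnity (G ⧸ N) ℂ
  -- linear characters
  let lin : ((G ⧸ N) →* ℂˣ) → (G →* ℂˣ) := fun ν => ν.comp (QuotientGroup.mk' N)
  have hlinN : ∀ ν, ∀ n ∈ N, lin ν n = 1 := by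
    intro ν n hn
    change ν (QuotientGroup.mk' N n) = 1
    rw [QuotientGroup.mk'_apply, (QuotientGroup.eq_one_iff n).2 hn, map_one]
  have hone : ∀ ν : G →* ℂˣ, IsIrrCharacter G (fun g => (ν g : ℂ)) := by
    intro ν
    have h1 := CharactersDeep.ExtUnique.isIrr_mul_hom (isIrr_one (G := G)) ν
    have e : (fun g => (1 : G → ℂ) g * (ν g : ℂ)) = fun g => (ν g : ℂ) := by
      funext g
      rw [Pi.one_apply, one_mul]
    rwa [e] at h1
  let L : ((G ⧸ N) →* ℂˣ) → IrrCharacter G := fun ν => ⟨fun g => (lin ν g : ℂ), hone _⟩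
  have hL : ∀ ν g, (L ν : G → ℂ) g = (lin ν g : ℂ) := fun _ _ => rfl
  have hLB : ∀ ν, L ν ∈ principalBlock M G := by
    intro ν
    refine S4626.result p M hM P N hpidx hCN (L ν) fun n hn => ?_
    rw [hL, hL, hlinN ν n hn, map_one]
  let X : ((G ⧸ N) →* ℂˣ) → IrrCharacter G := fun ν =>
    ⟨fun g => (χ : G → ℂ) g * (lin ν g : ℂ), CharactersDeep.ExtUnique.isIrr_mul_hom χ.2 (lin ν)⟩
  have hX : ∀ ν g, (X ν : G → ℂ) g = (χ : G → ℂ) g * (lin ν g : ℂ) := fun _ _ => rfl
  have hXB : ∀ ν, X ν ∈ principalBlock M G := fun ν =>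
    mul_mem hM (hLB ν) (by rw [hL, map_one]; rfl) hχB rfl
  -- injectivity
  have hLinj : Function.Injective L := by
    intro ν μ h
    ext g
    have h1 := congrFun (congrArg Subtype.val h) g
    exact h1
  have hXinj : Function.Injective X := by
    intro ν μ h
    ext g
    have h1 := CharactersDeep.CosetAverage.cosetAverage_self T (χ : G → ℂ) χ.2 hirr g
    obtain ⟨n, hn⟩ : ∃ n : T, (χ : G → ℂ) ((n : G) * g) ≠ 0 := by
      by_contra hcon
      push Not at hcon
      simp only [hcon, zero_mul, Finset.sum_const_zero, mul_zero] at h1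
      exact zero_ne_one h1
    have h2 := congrFun (congrArg Subtype.val h) ((n : G) * g)
    have h3 : (lin ν ((n : G) * g) : ℂ) = (lin μ ((n : G) * g) : ℂ) := mul_left_cancel₀ hn h2
    rw [map_mul, map_mul, hlinN ν n (hTN n.2), hlinN μ n (hTN n.2), one_mul, one_mul] at h3
    exact h3
  have hLX : ∀ ν μ, L ν ≠ X μ := by
    intro ν μ h
    apply ht₀
    have h1 := congrFun (congrArg Subtype.val h) (t₀ : G)
    change (lin ν t₀ : ℂ) = (χ : G → ℂ) t₀ * (lin μ t₀ : ℂ) at h1
    rw [hlinN ν _ (hTN t₀.2), hlinN μ _ (hTN t₀.2), Units.val_one, mul_one] at h1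
    exact h1.symm
  -- the count
  let f : ((G ⧸ N) →* ℂˣ) ⊕ ((G ⧸ N) →* ℂˣ) → principalBlock M G :=
    Sum.elim (fun ν => ⟨L ν, hLB ν⟩) (fun ν => ⟨X ν, hXB ν⟩)
  have hf : Function.Injective f := by
    rintro (ν | ν) (μ | μ) h
    · exact congrArg Sum.inl (hLinj (congrArg Subtype.val h))
    · exact absurd (congrArg Subtype.val h) (hLX ν μ)
    · exact absurd (congrArg Subtype.val h).symm (hLX μ ν)
    · exact congrArg Sum.inr (hXinj (congrArg Subtype.val h))
  have hfinΛ : Finite ((G ⧸ N) →* ℂˣ) := Nat.finite_of_card_ne_zero (by rw [hΛ]; norm_num)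
  have h6 := Nat.card_le_card_of_injective f hf
  rw [Nat.card_sum, hΛ] at h6
  exact h6

end Cfsg.Agent.H157.D
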